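import Groth.Agent.Variety.K798.ChowInt
import Groth.Agent.S1524
import Groth.Agent.S1525
import Groth.Agent.S0036
import Groth.Agent.S0019
import Groth.Agent.S0031
import Groth.Agent.Vancyc.H175.FibSupp
import Groth.Agent.CohqB.DevMaster
import Groth.Agent.CohqB.DevSimple
import Groth.Agent.Fga.ChiBasic
import Groth.Agent.Ega4B.RpushCompare
import Groth.Agent.VarietyB.HHPush
import Groth.Agent.Fdesc.StructMod

/-!
# Divisibility of Euler characteristics: devissage and Chow's lemma (job 248, node D of S17782)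

`dvd_euler_of_projective`: an integer `L` which divides `χ(Z, O_Z)` for all integral schemes `Z` projective over the
field `k`, of dimension at most `d`, with a `k`-morphism to the proper `k`-scheme `X`, `dim X ≤ d`, divides `χ(X, E)`
for all coherent `E` on `X`.
-/

set_option autoImplicit false
universe u

open CategoryTheory CategoryTheory.Limits AlgebraicGeometry Opposite TopologicalSpace

namespace K798.ChowDev

open Groth.Agent Groth.Agent.Fga.ChiBasic K798.ChowInt

/-- `R^0 g_* = g_*`. -/
noncomputable def rpushZero {Z X : Scheme.{u}} (g : Z ⟶ X) [HasInjectiveResolutions Z.Modules] :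
    Coh.Rpush g 0 ≅ Scheme.Modules.pushforward g :=
  haveI : PreservesFiniteLimits (Scheme.Modules.pushforward g) :=
    haveI := (Scheme.Modules.pullbackPushforwardAdjunction g).rightAdjoint_preservesLimits
    PreservesLimits.preservesFiniteLimits _
  (Scheme.Modules.pushforward g).rightDerivedZeroIsoSelf

theorem finite_fibre {W Z : Scheme.{u}} (π : W ⟶ Z) (U : Z.Opens) [IsIso (π ∣_ U)] (z : Z) (hz : z ∈ U) :
    (π.base ⁻¹' {z}).Finite := by
  refine Set.Subsingleton.finite ?_
  intro a ha b hb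
  have ha' : a ∈ π ⁻¹ᵁ U := by
    change π a ∈ U
    rw [show π a = z from ha]
    exact hz
  have hb' : b ∈ π ⁻¹ᵁ U := by
    change π b ∈ U
    rw [show π b = z from hb]
    exact hz
  have h1 : (π ∣_ U) ⟨a, ha'⟩ = (π ∣_ U) ⟨b, hb'⟩ := by
    apply U.ι.isOpenEmbedding.injective
    have h2 : ∀ x : (π ⁻¹ᵁ U).toScheme, U.ι ((π ∣_ U) x) = π ((π ⁻¹ᵁ U).ι x) := fun x => by
      rw [← Scheme.Hom.comp_apply, morphismRestrict_ι, Scheme.Hom.comp_apply]
    rw [h2, h2]
    exact (show π a = z from ha).trans (show π b = z from hb).symm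
  have h3 := (π ∣_ U).homeomorph.injective h1
  exact congrArg Subtype.val h3

section

variable (k : Type u) [Field k] {W X : Scheme.{u}} [X.Over (Spec (CommRingCat.of k))]
    [W.Over (Spec (CommRingCat.of k))] (g : W ⟶ X)
    (hg : g ≫ (X ↘ (Spec (CommRingCat.of k))) = W ↘ (Spec (CommRingCat.of k)))
    [IsProper (X ↘ Spec (CommRingCat.of k))] [IsProper (W ↘ Spec (CommRingCat.of k))]

theorem isNoetherian_of_proper (k : Type u) [Field k] (X : Scheme.{u}) [X.Over (Spec (CommRingCat.of k))]
    [IsProper (X ↘ Spec (CommRingCat.of k))] : IsNoetherian X := by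
  have : IsLocallyNoetherian X := LocallyOfFiniteType.isLocallyNoetherian (X ↘ Spec (CommRingCat.of k))
  have : CompactSpace X := (quasiCompact_iff_compactSpace (X ↘ (Spec (CommRingCat.of k)))).mp inferInstance
  exact {}

theorem isAdd_euler : IsAdd (Curv2.euler k X) := fun S hS h1 h2 h3 => S1524.result k X S hS h1 h2 h3

include hg in
/-- If `L` divides `χ(W, F)` and all `χ(X, R^n g_* F)`, `n > 0`, it divides `χ(X, g_* F)`. -/
theorem dvd_euler_push (F : W.Modules) (hF : Coh.IsCoh F) (L : ℤ) (hL : L ∣ Curv2.euler k W F)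
    (hpos : ∀ (_ : HasInjectiveResolutions W.Modules) (n : ℕ), 0 < n →
      L ∣ Curv2.euler k X ((Coh.Rpush g n).obj F)) :
    L ∣ Curv2.euler k X ((Coh.push g).obj F) ∧ Coh.IsCoh ((Coh.push g).obj F) := by
  have hprop : IsProper (g ≫ (X ↘ (Spec (CommRingCat.of k)))) := by rw [hg]; infer_instance
  have hgp : IsProper g := IsProper.of_comp g (X ↘ (Spec (CommRingCat.of k)))
  have hNX := isNoetherian_of_proper k X
  have hEI := VarietyB.HHPush.enoughInjectives W
  have hIR : HasInjectiveResolutions W.Modules := inferInstance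
  have hadd := isAdd_euler k (X := X)
  have hRc : Coh.IsCoh ((Coh.Rpush g 0).obj F) := S0036.result g _ hF 0
  have hpc : Coh.IsCoh ((Coh.push g).obj F) := Sga67.CohBasic.isCoh_of_iso ((rpushZero g).app F) hRc
  refine ⟨?_, hpc⟩
  obtain ⟨N, hN⟩ := S0031.result g
  have hzero : ∀ i, N ≤ i → IsZero ((Coh.Rpush g i).obj F) := fun i hi =>
    (Ega4B.RpushCompare.isZero_rpush_iff g F i).mpr (hN F hF.1 i hi)
  have h1 : Curv2.euler k W F =
      ∑ i ∈ Finset.range (N + 1), (-1 : ℤ) ^ i * Curv2.euler k X ((Coh.Rpush g i).obj F) := by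
    rw [S1525.result k X W g hg F hF]
    refine finsum_eq_sum_of_support_subset _ ?_
    intro i hi
    rw [Finset.coe_range, Set.mem_Iio]
    by_contra hlt
    apply hi
    have hz := hzero i (by omega)
    simp only [chi_isZero hadd hz, mul_zero]
  rw [Finset.sum_range_succ', pow_zero, one_mul] at h1
  have h0 : Curv2.euler k X ((Coh.Rpush g 0).obj F) = Curv2.euler k X ((Coh.push g).obj F) :=
    chi_iso hadd ((rpushZero g).app F) hRc
  rw [← h0]
  have h2 : L ∣ ∑ i ∈ Finset.range N, (-1 : ℤ) ^ (i + 1) * Curv2.euler k X ((Coh.Rpush g (i + 1)).obj F) :=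
    Finset.dvd_sum fun i _ => Dvd.dvd.mul_left (hpos hIR (i + 1) (Nat.succ_pos i)) _
  rw [h1] at hL
  exact (dvd_add_right h2).mp hL

end

/-- **Node D of S17782.** -/
theorem dvd_euler_of_projective (k : Type u) [Field k] (L : ℤ) (X : Scheme.{u})
    [X.Over (Spec (CommRingCat.of k))] [IsProper (X ↘ Spec (CommRingCat.of k))]
    (d : ℕ) (hd : topologicalKrullDim X ≤ d)
    (H : ∀ (Z : Scheme.{u}) [Z.Over (Spec (CommRingCat.of k))] [IsProper (Z ↘ Spec (CommRingCat.of k))]
      [IsIntegral Z] (f : Z ⟶ X), f ≫ (X ↘ Spec (CommRingCat.of k)) = Z ↘ Spec (CommRingCat.of k) →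
      ∀ (N : ℕ) (i : Z ⟶ CohB1.ProjSpace N k), IsClosedImmersion i →
      i ≫ CohB1.ProjSpace.toSpec N k = Z ↘ Spec (CommRingCat.of k) → topologicalKrullDim Z ≤ d →
      L ∣ Curv2.euler k Z (Coh.structureModule Z))
    (E : X.Modules) (hE : Coh.IsCoh E) : L ∣ Curv2.euler k X E := by
  have hN := isNoetherian_of_proper k X
  have hadd := isAdd_euler k (X := X)
  refine CohqB.DevMaster.devissage X (fun M => L ∣ Curv2.euler k X M)
    (fun M h => by
      rw [chi_isZero hadd h]
      exact dvd_zero L) ?_ ?_ E hE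
  · intro S hS c1 c2 c3
    have h := hadd S hS c1 c2 c3
    change (L ∣ Curv2.euler k X S.X₁ → L ∣ Curv2.euler k X S.X₂ → L ∣ Curv2.euler k X S.X₃) ∧
      (L ∣ Curv2.euler k X S.X₁ → L ∣ Curv2.euler k X S.X₃ → L ∣ Curv2.euler k X S.X₂) ∧
      (L ∣ Curv2.euler k X S.X₂ → L ∣ Curv2.euler k X S.X₃ → L ∣ Curv2.euler k X S.X₁)
    rw [h]
    exact ⟨fun h1 h2 => (dvd_add_right h1).mp h2, fun h1 h3 => dvd_add h1 h3,
      fun h2 h3 => (dvd_add_left h3).mp h2⟩
  · intro Z i _ _ hsmall
    have hZp : IsProper (i ≫ (X ↘ Spec (CommRingCat.of k))) := inferInstance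
    obtain ⟨W, hW, π, hπ, U, hiso, N, j, hU, hj, hjt⟩ := exists_chow k (i ≫ (X ↘ Spec (CommRingCat.of k)))
    let instW : W.Over (Spec (CommRingCat.of k)) := ⟨(π ≫ i) ≫ (X ↘ Spec (CommRingCat.of k))⟩
    have hg : (π ≫ i) ≫ (X ↘ Spec (CommRingCat.of k)) = W ↘ Spec (CommRingCat.of k) := rfl
    have hWp : IsProper (W ↘ Spec (CommRingCat.of k)) :=
      inferInstanceAs (IsProper ((π ≫ i) ≫ (X ↘ Spec (CommRingCat.of k))))
    have hdimW : topologicalKrullDim W ≤ d := by
      rw [dim_eq_of_birational (i ≫ (X ↘ Spec (CommRingCat.of k))) π U hU]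
      exact (i.isClosedEmbedding.isInducing.topologicalKrullDim_le).trans hd
    have hχ : L ∣ Curv2.euler k W (Coh.structureModule W) :=
      H W (π ≫ i) hg N j hj (by rw [hjt, ← Category.assoc, hg]) hdimW
    have hO : Coh.IsCoh (Coh.structureModule W) := by
      have := isNoetherian_of_proper k W
      exact Fdesc.StructMod.isCoh_structureModule _
    have hξU : genericPoint Z ∈ U :=
      ((genericPoint_spec Z).mem_open_set_iff U.isOpen).mpr (by simpa using hU)
    have hrange : Set.range (π ≫ i) ⊆ Set.range i := by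
      rintro _ ⟨w, rfl⟩
      exact ⟨π w, rfl⟩
    have hgp : IsProper (π ≫ i) := inferInstance
    obtain ⟨hdvd, hcoh⟩ := dvd_euler_push k (π ≫ i) hg (Coh.structureModule W) hO L hχ (by
      intro hIR n hn
      refine hsmall _ (S0036.result (π ≫ i) _ hO n) ?_ ?_
      · refine Vancyc.H175.FibSupp.support_rpush_subset (π ≫ i) hO n hn (Set.range i) fun z hz => ?_
        have : (π ≫ i).base ⁻¹' {z} = ∅ := by
          ext w
          simp only [Set.mem_preimage, Set.mem_singleton_iff, Set.mem_empty_iff_false, iff_false]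
          intro hw
          exact hz (hrange ⟨w, hw⟩)
        rw [this]
        exact Set.finite_empty
      · intro he
        have hnot := Vancyc.H175.FibSupp.not_mem_support_rpush (π ≫ i) hO n hn (i (genericPoint Z)) (by
          refine (finite_fibre π U (genericPoint Z) hξU).subset ?_
          intro w hw
          exact i.isClosedEmbedding.injective hw)
        rw [he] at hnot
        exact hnot ⟨_, rfl⟩)
    have hIe : (Coh.push i).obj ((Coh.push π).obj (Coh.structureModule W)) ≅
        (Coh.push (π ≫ i)).obj (Coh.structureModule W) :=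
      (Scheme.Modules.pushforwardComp π i).app _
    have hne : Nonempty U := hU.to_subtype
    refine ⟨(Coh.push i).obj ((Coh.push π).obj (Coh.structureModule W)),
      Sga67.CohBasic.isCoh_of_iso hIe.symm hcoh, CohqB.DevSimple.support_push_subset_range i _,
      CohqB.DevSimple.isSimpleModule_stalk_push i _ U (restrict_push_iso π U), ?_⟩
    rw [chi_iso hadd hIe (Sga67.CohBasic.isCoh_of_iso hIe.symm hcoh)]
    exact hdvd

end K798.ChowDev
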