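import Groth.Agent.S0025
import Groth.Agent.Fdesc.LocGen
import Groth.Agent.Fga.IntegralSub
import Groth.Agent.CohqB.ProjBC
import Groth.Agent.Flat2G.ProperDim
import Groth.Agent.Sga7.H752.GenDim
import Groth.Agent.CurvesC.ModDim
import Groth.Agent.Ega4fib.H112.FibreFormula
import Groth.Agent.FlatA.FibreDim
import Groth.Agent.Ega3B.ProjProper
import Mathlib.AlgebraicGeometry.Morphisms.Immersion

/-!
# Chow's lemma with integral source, and the direct image of the structure sheaf over the isomorphism locus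

* `restrict_push_iso`: for `f : Y ⟶ Z` an isomorphism over `U`, `(f_* O_Y)|_U ≅ O_U`.
* `exists_chow`: for `Z` integral and proper over a field there is an integral closed subscheme `W` of some
  projective space over the field with a proper map `W ⟶ Z` which is an isomorphism over a nonempty open.
* `dim_eq_of_birational`: then `dim W = dim Z`.
-/

set_option autoImplicit false
universe u

open CategoryTheory CategoryTheory.Limits AlgebraicGeometry Opposite TopologicalSpace

namespace K798.ChowInt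

open Groth.Agent Groth.Agent.Fdesc.LocGen

/-- If `f` is an isomorphism over `U`, it induces isomorphisms on sections over the smaller opens. -/
theorem bijective_app {Y Z : Scheme.{u}} (f : Y ⟶ Z) (U : Z.Opens) [IsIso (f ∣_ U)] (V : Z.Opens) (hV : V ≤ U) :
    Function.Bijective (f.app V) := by
  have h1 : IsIso ((f ∣_ U).app (U.ι ⁻¹ᵁ V)) := inferInstance
  rw [morphismRestrict_app] at h1
  have h2 : IsIso (f.app (U.ι ''ᵁ U.ι ⁻¹ᵁ V)) :=
    @IsIso.of_isIso_comp_right _ _ _ _ _ _ _ (Functor.map_isIso _ _) h1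
  have h3 : U.ι ''ᵁ U.ι ⁻¹ᵁ V = V := by
    rw [Scheme.Hom.image_preimage_eq_opensRange_inf, Scheme.Opens.opensRange_ι]
    exact inf_eq_right.mpr hV
  rw [h3] at h2
  exact ConcreteCategory.bijective_of_isIso (f.app V)

theorem restrict_push_iso {Y Z : Scheme.{u}} (f : Y ⟶ Z) (U : Z.Opens) [IsIso (f ∣_ U)] :
    Nonempty (((Coh.push f).obj (Coh.structureModule Y)).restrict U.ι ≅ Coh.structureModule U) := by
  have hle : U.ι ''ᵁ ⊤ ≤ U := by simp
  let s : Γ((Coh.push f).obj (Coh.structureModule Y), U.ι ''ᵁ ⊤) := one (X := Y) (f ⁻¹ᵁ (U.ι ''ᵁ ⊤))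
  have hs : IsGen s := by
    intro V hV
    have hb := bijective_app f U V (hV.trans hle)
    have h1 : (fun a : Γ(Z, V) => a • res ((Coh.push f).obj (Coh.structureModule Y)) hV s) =
        fun a => (ofFun (X := Y) (U := f ⁻¹ᵁ V) (f.app V a) :
          Γ((Coh.push f).obj (Coh.structureModule Y), V)) := by
      funext a
      rw [ofFun_eq_smul]
      have h2 : res ((Coh.push f).obj (Coh.structureModule Y)) hV s =
          (one (X := Y) (f ⁻¹ᵁ V) : Γ((Coh.push f).obj (Coh.structureModule Y), V)) :=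
        res_one (X := Y) (f.preimage_mono hV)
      rw [h2]
      rfl
    rw [h1]
    exact (ofFun (X := Y) (U := f ⁻¹ᵁ V)).bijective.comp hb
  have h3 : IsGen (toRestrict U.ι (U := ⊤) s) := (isGen_toRestrict_iff U.ι s).mpr hs
  have h4 : IsIso (homOf (toRestrict U.ι (U := ⊤) s)) := by
    rw [isIso_iff_isGen, sec_homOf, res_refl]
    exact h3
  exact ⟨(asIso (homOf (toRestrict U.ι (U := ⊤) s))).symm⟩

/-- **Chow's lemma** with integral source, for an integral scheme proper over a field. -/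
theorem exists_chow (k : Type u) [Field k] {Z : Scheme.{u}} [IsIntegral Z] (a : Z ⟶ Spec (CommRingCat.of k))
    [IsProper a] :
    ∃ (W : Scheme.{u}) (_ : IsIntegral W) (π : W ⟶ Z) (_ : IsProper π) (U : Z.Opens) (_ : IsIso (π ∣_ U))
      (N : ℕ) (j : W ⟶ CohB1.ProjSpace N k), (U : Set Z).Nonempty ∧ IsClosedImmersion j ∧
      j ≫ CohB1.ProjSpace.toSpec N k = π ≫ a := by
  obtain ⟨n, X', π, j, hj, hjt, hπ, hsurj, U, hU, hiso⟩ := S0025.result a
  have hUne : (U : Set Z).Nonempty := hU.nonempty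
  have hξU : genericPoint Z ∈ U :=
    ((genericPoint_spec Z).mem_open_set_iff U.isOpen).mpr (by simpa using hUne)
  let y : (π ⁻¹ᵁ U).toScheme := (inv (π ∣_ U)) ⟨genericPoint Z, hξU⟩
  have hy : (π ∣_ U) y = ⟨genericPoint Z, hξU⟩ := by
    change (inv (π ∣_ U) ≫ (π ∣_ U)) ⟨genericPoint Z, hξU⟩ = _
    rw [IsIso.inv_hom_id]
    rfl
  obtain ⟨W, i, hi, hW, hgen, hr⟩ := Fga.IntegralSub.exists_integral_closed ((π ⁻¹ᵁ U).ι y)
  have hUint : IsIntegral U.toScheme := by
    have : Nonempty U.toScheme := ⟨⟨_, hξU⟩⟩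
    exact isIntegral_of_isOpenImmersion U.ι
  have hred : IsReduced (π ⁻¹ᵁ U).toScheme := isReduced_of_isOpenImmersion (π ∣_ U)
  have hsurj' : Surjective (i ∣_ (π ⁻¹ᵁ U)) := by
    refine ⟨fun x => ?_⟩
    have h1 : y ⤳ x := by
      rw [← (π ∣_ U).homeomorph.isInducing.specializes_iff]
      have h2 : U.ι ((π ∣_ U) y) ⤳ U.ι ((π ∣_ U) x) := by
        have h3 : U.ι ((π ∣_ U) y) = genericPoint Z := by
          rw [hy]
          rfl
        rw [h3]
        exact genericPoint_specializes _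
      exact U.ι.isOpenEmbedding.isInducing.specializes_iff.mp h2
    have h2 : (π ⁻¹ᵁ U).ι x ∈ Set.range i := by
      rw [hr]
      exact (h1.map (π ⁻¹ᵁ U).ι.continuous).mem_closure
    obtain ⟨w, hw⟩ := h2
    have hw' : w ∈ i ⁻¹ᵁ (π ⁻¹ᵁ U) := by
      change i w ∈ π ⁻¹ᵁ U
      rw [hw]
      exact x.2
    refine ⟨⟨w, hw'⟩, ?_⟩
    apply (π ⁻¹ᵁ U).ι.isOpenEmbedding.injective
    rw [← Scheme.Hom.comp_apply, morphismRestrict_ι]
    exact hw
  have hiU : IsIso (i ∣_ (π ⁻¹ᵁ U)) := isIso_of_isClosedImmersion_of_surjective _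
  have hπi : IsIso ((i ≫ π) ∣_ U) := by
    rw [morphismRestrict_comp]
    exact @IsIso.comp_isIso _ _ _ _ _ (i ∣_ π ⁻¹ᵁ U) (π ∣_ U) hiU hiso
  let e := CohqB.ProjBC.projSpaceOverIso n k
  have hc : (i ≫ j ≫ e.hom) ≫ CohB1.ProjSpace.toSpec n k = (i ≫ π) ≫ a := by
    rw [Category.assoc, Category.assoc, CohqB.ProjBC.projSpaceOverIso_hom_toSpec, hjt, Category.assoc]
  refine ⟨W, hW, i ≫ π, inferInstance, U, hπi, n, i ≫ j ≫ e.hom, hUne, ?_, hc⟩
  have hp : IsProper ((i ≫ j ≫ e.hom) ≫ CohB1.ProjSpace.toSpec n k) := by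
    rw [hc]
    infer_instance
  have hps := Ega3B.ProjProper.isProper_toSpec n k
  have hp' : IsProper (i ≫ j ≫ e.hom) := IsProper.of_comp _ (CohB1.ProjSpace.toSpec n k)
  have him : IsImmersion (i ≫ j ≫ e.hom) := inferInstance
  exact .of_isPreimmersion _ (i ≫ j ≫ e.hom).isClosedMap.isClosed_range

/-- Birational integral schemes over a field have the same dimension (K97.DimTools, small closure). -/
theorem dim_eq_fibreDimAt {k : Type u} [Field k] {X : Scheme.{u}} [IsIntegral X]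
    (a : X ⟶ Spec (CommRingCat.of k)) [LocallyOfFiniteType a] :
    topologicalKrullDim X = FlatMor.fibreDimAt a (genericPoint X) := by
  have hss : Subsingleton (Spec (CommRingCat.of k)) := inferInstanceAs (Subsingleton (PrimeSpectrum k))
  have hdom : IsDominant a := ⟨fun y => subset_closure ⟨Classical.arbitrary X, Subsingleton.elim _ _⟩⟩
  have h0 : topologicalKrullDim (a.fiber (genericPoint (Spec (CommRingCat.of k)))) = topologicalKrullDim X := by
    rw [FlatA.FibreDim.topologicalKrullDim_fiber_eq]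
    have hx : a ⁻¹' {genericPoint (Spec (CommRingCat.of k))} = Set.univ := by
      ext x
      simp only [Set.mem_preimage, Set.mem_singleton_iff, Set.mem_univ, iff_true]
      exact Subsingleton.elim _ _
    rw [hx]
    exact IsHomeomorph.topologicalKrullDim_eq _ (Homeomorph.Set.univ X).isHomeomorph
  rw [← h0]
  refine le_antisymm ?_ ((Flat2G.ProperDim.topologicalKrullDim_fiber_le_iff a _ _).1 le_rfl _
    (Subsingleton.elim _ _))
  have h1 := Ega4fib.H112.FibreFormula.fibreDimAt_eq_add_toNat a (genericPoint X)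
  have h2 := Ega4fib.H112.FibreFormula.topologicalKrullDim_fiber_genericPoint a
    (Cardinal.toNat (CycB.RelDim.rtd a (genericPoint X)))
    (Cardinal.cast_toNat_of_lt_aleph0 (CycB.RelDim.rtd_lt_aleph0 a (genericPoint X))).symm
  rw [h2, h1]
  refine le_add_of_nonneg_left ?_
  exact ringKrullDim_nonneg_of_nontrivial

theorem dim_eq_of_birational {k : Type u} [Field k] {X Y : Scheme.{u}} [IsIntegral X] [IsIntegral Y]
    (a : X ⟶ Spec (CommRingCat.of k)) [LocallyOfFiniteType a] (π : Y ⟶ X) [LocallyOfFiniteType π]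
    (U : X.Opens) (hU : (U : Set X).Nonempty) [IsIso (π ∣_ U)] :
    topologicalKrullDim Y = topologicalKrullDim X := by
  rw [dim_eq_fibreDimAt a, dim_eq_fibreDimAt (π ≫ a)]
  have hne := CurvesC.ModDim.nonempty_preimage π U hU
  have hξ : genericPoint Y ∈ π ⁻¹ᵁ U :=
    ((genericPoint_spec Y).mem_open_set_iff (π ⁻¹ᵁ U).isOpen).mpr (by simpa using hne)
  have h1 := Sga7.H752.GenDim.fibreDimAt_comp (π ⁻¹ᵁ U).ι (π ≫ a) ⟨genericPoint Y, hξ⟩
  have h2 := Sga7.H752.GenDim.fibreDimAt_comp ((π ∣_ U) ≫ U.ι) a ⟨genericPoint Y, hξ⟩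
  have h3 : (π ⁻¹ᵁ U).ι ≫ π ≫ a = ((π ∣_ U) ≫ U.ι) ≫ a := by
    rw [← Category.assoc, ← morphismRestrict_ι]
  rw [h3, h2] at h1
  have h4 : ((π ∣_ U) ≫ U.ι) ⟨genericPoint Y, hξ⟩ = genericPoint X := by
    have h5 : Nonempty (π ⁻¹ᵁ U).toScheme := ⟨⟨_, hξ⟩⟩
    have h6 : (⟨genericPoint Y, hξ⟩ : (π ⁻¹ᵁ U).toScheme) = genericPoint (π ⁻¹ᵁ U).toScheme := by
      apply (π ⁻¹ᵁ U).ι.isOpenEmbedding.injective
      rw [genericPoint_eq_of_isOpenImmersion (π ⁻¹ᵁ U).ι]
      rfl
    rw [h6]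
    exact genericPoint_eq_of_isOpenImmersion ((π ∣_ U) ≫ U.ι)
  rw [h4] at h1
  exact h1.symm

end K798.ChowInt
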